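import Groth.Agent.DetTriv22.Basic
import Groth.Agent.SplitP1.Split
import Groth.Agent.ModStalk.Exact
import Groth.Agent.AmpleLib.Tensor
import Mathlib.LinearAlgebra.Matrix.Adjugate
import Mathlib.LinearAlgebra.Matrix.ToLinearEquiv

/-!
# The multiplication map `Γ(E) ⊗ Γ(det E) → Γ(E ⊗ det E)` has kernel when `E` is generically generated
-/

set_option autoImplicit false
set_option linter.style.haveILetI false
set_option linter.unusedSectionVars false
set_option backward.isDefEq.respectTransparency.types false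

universe u

open CategoryTheory CategoryTheory.Limits AlgebraicGeometry TopologicalSpace Opposite MonoidalCategory
open Groth.Agent.Coherent Groth.Agent.PicLib Groth.Agent.AmpleLib
open Groth.Agent.Canon15.ExtPull (Frame exists_frame)

namespace Groth.Agent.MulDet27

/-- Cramer's rule in a basis. -/
theorem cramer_basis {R M : Type*} [CommRing R] [AddCommGroup M] [Module R M] {n : ℕ}
    (B : Module.Basis (Fin n) R M) (v : Fin n → M) (x : M) :
    B.det v • x = ∑ i, B.det (Function.update v i x) • v i := by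
  classical
  apply B.repr.injective
  ext l
  have h := congrFun (Matrix.mulVec_cramer (B.toMatrix v) (fun l => B.repr x l)) l
  simp only [Matrix.mulVec, dotProduct, Pi.smul_apply, smul_eq_mul, Matrix.cramer_apply,
    Module.Basis.toMatrix_apply] at h
  simp only [map_smul, map_sum, Finsupp.coe_finsetSum, Finset.sum_apply, Finsupp.coe_smul, Pi.smul_apply,
    smul_eq_mul, Module.Basis.det_apply]
  rw [← h]
  refine Finset.sum_congr rfl fun i _ => ?_
  rw [mul_comm]
  congr 1
  rw [Module.Basis.toMatrix_update]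

variable {X : Scheme.{u}} [IsIntegral X]

/-- Generically generated: some `r` global sections give a basis at the generic point. -/
theorem exists_generic_frame [IsLocallyNoetherian X] {r : ℕ} {E : X.Modules} (hE : FlatMod.IsFinLocFreeOfRank r E) (U : X.Opens)
    (hU : (U : Set X).Nonempty) {J : Type u} (s : J → (Coh.structureModule X ⟶ E))
    (hs : Epi ((Scheme.Modules.restrictFunctor U.ι).map (Sigma.desc s))) :
    ∃ f : Fin r → J, LinearIndependent X.functionField
      (fun a => E.presheaf.germ ⊤ (genericPoint X) trivial (unitVal (s (f a)) ⊤)) := by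
  classical
  let η := genericPoint X
  let St := DerSch.stalkFunctor X η
  let v : J → E.presheaf.stalk η := fun j => E.presheaf.germ ⊤ η trivial (unitVal (s j) ⊤)
  obtain ⟨B₀⟩ := SplitP1.nonempty_basis_stalk hE η
  have hspan : Submodule.span X.functionField (Set.range v) = ⊤ := by
    by_contra hne
    obtain ⟨l, hl0, hl⟩ := Submodule.exists_dual_map_eq_bot_of_lt_top
      (lt_top_iff_ne_top.2 hne) inferInstance
    have hlv : ∀ j, l (v j) = 0 := fun j => by
      have : l (v j) ∈ (Submodule.span X.functionField (Set.range v)).map l :=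
        Submodule.mem_map_of_mem (Submodule.subset_span ⟨j, rfl⟩)
      rwa [hl, Submodule.mem_bot] at this
    -- the composite with the stalk map vanishes on every summand, and the stalk map is surjective
    have hsurj : Function.Surjective (St.map (Sigma.desc s)).hom := by
      intro m
      obtain ⟨V, hV, t, rfl⟩ := TopCat.Presheaf.exists_germ_eq E.presheaf m
      have hηU : η ∈ U := ((genericPoint_spec X).mem_open_set_iff U.2).2
        (hU.elim fun z hz => ⟨z, trivial, hz⟩)
      let W₀ : (U : Scheme.{u}).Opens := U.ι ⁻¹ᵁ V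
      have hle : U.ι ''ᵁ W₀ ≤ V := U.ι.image_preimage_le V
      haveI := hs
      obtain ⟨W', hW', hηW', a, ha⟩ := Coherent.exists_lift_of_epi
        ((Scheme.Modules.restrictFunctor U.ι).map (Sigma.desc s)) W₀
        (show Γ(E.restrict U.ι, W₀) from resM E hle t) ⟨η, hηU⟩ hV
      let a' : Γ(∐ fun _ : J => Coh.structureModule X, U.ι ''ᵁ W') := a
      have hη' : η ∈ U.ι ''ᵁ W' := ⟨⟨η, hηU⟩, hηW', rfl⟩
      refine ⟨(∐ fun _ : J => Coh.structureModule X).presheaf.germ (U.ι ''ᵁ W') η hη' a', ?_⟩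
      refine (AssSch12.stalkFunctor_map_germ _ hη' a').trans ?_
      have h1 : (Sigma.desc s).app (U.ι ''ᵁ W') a' = resM E ((U.ι.image_mono hW').trans hle) t := by
        refine ha.trans ?_
        show resM E (U.ι.image_mono hW') (resM E hle t) = _
        exact resM_resM _ _ _ _
      rw [h1]
      exact TopCat.Presheaf.germ_res_apply _ _ _ hη' t
    haveI := (ModStalk.stalkAdj η).leftAdjoint_preservesColimits (F := DerSch.stalkFunctor X η)
    have hzero : St.map (Sigma.desc s) ≫ ModuleCat.ofHom (X := E.presheaf.stalk η) (Y := X.functionField) l = 0 := by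
      refine (isColimitOfPreserves St (coproductIsCoproduct _)).hom_ext fun j => ?_
      rw [comp_zero]
      show St.map (Sigma.ι (fun _ : J => Coh.structureModule X) j.as) ≫ _ = 0
      rw [← Category.assoc, ← Functor.map_comp, Sigma.ι_desc]
      ext m
      obtain ⟨V, hV, t, rfl⟩ := TopCat.Presheaf.exists_germ_eq (Coh.structureModule X).presheaf m
      show l ((St.map (s j.as)).hom ((Coh.structureModule X).presheaf.germ V η hV t)) = 0
      rw [AssSch12.stalkFunctor_map_germ _ hV t]
      have h1 : (s j.as).app V t = (show Γ(X, V) from t) • resM E le_top (unitVal (s j.as) ⊤) := by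
        rw [resM_unitVal]
        exact app_unit (s j.as) _
      rw [h1, QCohLoc.germ_smul' E hV]
      erw [map_smul l]
      have h2 : E.presheaf.germ V η hV (resM E le_top (unitVal (s j.as) ⊤)) = v j.as :=
        TopCat.Presheaf.germ_res_apply _ (homOfLE le_top) η hV _
      rw [h2, hlv, smul_zero]
    refine hl0 (LinearMap.ext fun m => ?_)
    obtain ⟨w, rfl⟩ := hsurj m
    exact congrArg (fun t => t.hom w) hzero
  obtain ⟨b, hb, hbspan, hbli⟩ := exists_linearIndependent X.functionField (Set.range v)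
  rw [hspan] at hbspan
  let B := Module.Basis.mk hbli (by rw [Subtype.range_coe]; exact hbspan.ge)
  let e := B₀.indexEquiv B
  choose f hf using fun a : Fin r => hb (e a).2
  refine ⟨f, ?_⟩
  rw [show (fun a => E.presheaf.germ ⊤ η trivial (unitVal (s (f a)) ⊤)) = (fun i : b => (i : E.presheaf.stalk η)) ∘ e
    from funext hf]
  exact hbli.comp _ e.injective

variable {r : ℕ} {E L : X.Modules}
  (φ : ∀ U : X.affineOpens, (L.val.obj (op U.1)) ≃ₗ[Γ(X, U.1)] ↥(⋀[Γ(X, U.1)]^r (E.val.obj (op U.1))))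
  (hφ : ∀ (U V : X.affineOpens) (h : V.1 ≤ U.1) (e : Fin r → E.val.obj (op U.1)),
    L.val.map (homOfLE h).op ((φ U).symm (exteriorPower.ιMulti _ r e)) =
      (φ V).symm (exteriorPower.ιMulti _ r (fun j => E.val.map (homOfLE h).op (e j))))
  (hE : FlatMod.IsFinLocFreeOfRank r E)

include hE in
/-- Sections independent at the generic point have a nonzero wedge. -/
theorem wedge_ne_zero (σ : Fin r → Γ(E, (⊤ : X.Opens)))
    (hσ : LinearIndependent X.functionField (fun a => E.presheaf.germ ⊤ (genericPoint X) trivial (σ a)))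
    (δ : Γ(L, (⊤ : X.Opens)))
    (hδ : ∀ U : X.affineOpens, resM L le_top δ = DetTriv22.wedgeOn φ U fun j => resM E le_top (σ j)) : δ ≠ 0 := by
  classical
  intro h0
  let η := genericPoint X
  obtain ⟨i, hη, -⟩ := exists_frame hE η (Opens.mem_top η)
  obtain ⟨B, -, -⟩ := DetTriv22.wedgeOn_eq_det φ i.V i.hb fun j => resM E le_top (σ j)
  have h1 := hδ i.V
  rw [h0, map_zero] at h1
  have h2 : (exteriorPower.ιMulti Γ(X, i.V.1) r
      (show Fin r → E.val.obj (op i.V.1) from fun j => resM E le_top (σ j))) = 0 :=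
    (φ i.V).symm.injective (h1.symm.trans (map_zero _).symm)
  have hdet := congrArg (exteriorPower.alternatingMapLinearEquiv
    (show (E.val.obj (op i.V.1)) [⋀^Fin r]→ₗ[Γ(X, i.V.1)] Γ(X, i.V.1) from B.det)) h2
  rw [exteriorPower.alternatingMapLinearEquiv_apply_ιMulti, map_zero] at hdet
  let g : Γ(X, i.V.1) →+* X.functionField := (X.presheaf.germ i.V.1 η hη).hom
  let P : Matrix (Fin r) (Fin r) X.functionField := (B.toMatrix fun j => resM E le_top (σ j)).map g
  have hP : P.det = 0 := by
    show (g.mapMatrix (B.toMatrix fun j => resM E le_top (σ j))).det = 0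
    rw [← RingHom.map_det, ← Module.Basis.det_apply]
    exact (congrArg g hdet).trans (map_zero g)
  obtain ⟨c, hc0, hc⟩ := Matrix.exists_mulVec_eq_zero_iff.2 hP
  refine hc0 (funext (Fintype.linearIndependent_iff.1 hσ c ?_))
  have hgerm : ∀ j, E.presheaf.germ ⊤ η trivial (σ j) = ∑ l, P l j • E.presheaf.germ i.V.1 η hη (B l) := by
    intro j
    rw [← TopCat.Presheaf.germ_res_apply E.presheaf (homOfLE (le_top : i.V.1 ≤ ⊤)) η hη (σ j)]
    show E.presheaf.germ i.V.1 η hη (resM E le_top (σ j)) = _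
    conv_lhs => rw [← B.sum_repr (resM E le_top (σ j)), map_sum]
    exact Finset.sum_congr rfl fun l _ => QCohLoc.germ_smul' E hη _ _
  show ∑ j, c j • E.presheaf.germ ⊤ η trivial (σ j) = 0
  rw [Finset.sum_congr rfl fun j _ => congrArg (c j • ·) (hgerm j)]
  simp only [Finset.smul_sum, smul_smul]
  rw [Finset.sum_comm]
  refine Finset.sum_eq_zero fun l _ => ?_
  rw [← Finset.sum_smul, show ∑ j, c j * P l j = 0 from ?_, zero_smul]
  have := congrFun hc l
  simp only [Matrix.mulVec, dotProduct, Pi.zero_apply] at this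
  rw [← this]
  exact Finset.sum_congr rfl fun j _ => mul_comm _ _

include hE in
/-- The Plücker relation `τ ⊗ δ = ∑ σᵢ ⊗ δᵢ`. -/
theorem tmul_relation (σ : Fin r → Γ(E, (⊤ : X.Opens))) (τ : Γ(E, (⊤ : X.Opens))) (δ : Γ(L, (⊤ : X.Opens)))
    (δ' : Fin r → Γ(L, (⊤ : X.Opens)))
    (hδ : ∀ U : X.affineOpens, resM L le_top δ = DetTriv22.wedgeOn φ U fun j => resM E le_top (σ j))
    (hδ' : ∀ (i : Fin r) (U : X.affineOpens),
      resM L le_top (δ' i) = DetTriv22.wedgeOn φ U fun j => resM E le_top (Function.update σ i τ j)) :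
    tmul τ δ = ∑ i, tmul (σ i) (δ' i) := by
  classical
  refine sec_ext (CohB1.tensorMod E L) _ _ fun y hy => ?_
  obtain ⟨i, hyV, -⟩ := exists_frame hE y (Opens.mem_top y)
  refine ⟨i.V.1, le_top, hyV, ?_⟩
  show resM _ le_top (tmul τ δ) = resM _ le_top (∑ a, tmul (σ a) (δ' a))
  rw [map_sum, resM_tmul]
  simp only [resM_tmul]
  let ω := DetTriv22.wedgeOn φ i.V fun a => i.b ⟨a⟩
  let v : Fin r → Γ(E, i.V.1) := fun j => resM E le_top (σ j)
  obtain ⟨B, hB, h⟩ := DetTriv22.wedgeOn_eq_det φ i.V i.hb v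
  have hall : ∀ w : Fin r → Γ(E, i.V.1), DetTriv22.wedgeOn φ i.V w = B.det w • ω := fun w => by
    obtain ⟨B', hB', h'⟩ := DetTriv22.wedgeOn_eq_det φ i.V i.hb w
    rwa [show B' = B from Module.Basis.eq_of_apply_eq fun a => (hB' a).trans (hB a).symm] at h'
  have hupd : ∀ a, (fun j => resM E (le_top : i.V.1 ≤ ⊤) (Function.update σ a τ j)) =
      Function.update v a (resM E le_top τ) := fun a => by
    funext j
    by_cases hj : j = a
    · subst hj; simp [v]
    · simp [v, hj]
  rw [hδ i.V, hall, tmul_smul_right, ← tmul_smul_left, cramer_basis B v (resM E le_top τ)]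
  let lin : Γ(E, i.V.1) →+ Γ(CohB1.tensorMod E L, i.V.1) :=
    AddMonoidHom.mk' (fun a => tmul a ω) fun a a' => tmul_add_left a a' ω
  show lin (∑ a, B.det (Function.update v a (resM E le_top τ)) • v a) = _
  rw [map_sum]
  refine Finset.sum_congr rfl fun a _ => ?_
  rw [hδ' a i.V, hall, hupd]
  show tmul (_ • v a) ω = tmul (v a) (_ • ω)
  rw [tmul_smul_left, tmul_smul_right]

include hE hφ in
/-- Generically generated bundles with more sections than the rank: multiplication with `det` is not injective. -/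
theorem not_injective [IsLocallyNoetherian X] {J : Type u} (U : X.Opens) (hU : (U : Set X).Nonempty)
    (s : J → (Coh.structureModule X ⟶ E))
    (hs : Epi ((Scheme.Modules.restrictFunctor U.ι).map (Sigma.desc s)))
    (hF : IsField Γ(X, ⊤))
    (hlt : ∀ σ : Fin r → Γ(E, (⊤ : X.Opens)), ∃ τ : Γ(E, (⊤ : X.Opens)),
      τ ∉ Submodule.span Γ(X, ⊤) (Set.range σ)) :
    ¬ Function.Injective ((toSheafify (Opens.grothendieckTopology ↥X) (CohB1.tensorPre E L).presheaf).app (op ⊤)) := by
  classical
  intro hinj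
  obtain ⟨f, hf⟩ := exists_generic_frame hE U hU s hs
  let σ : Fin r → Γ(E, (⊤ : X.Opens)) := fun a => unitVal (s (f a)) ⊤
  obtain ⟨τ, hτ⟩ := hlt σ
  obtain ⟨δ, hδ⟩ := DetTriv22.exists_wedge φ hφ σ
  choose δ' hδ' using fun a => DetTriv22.exists_wedge φ hφ (Function.update σ a τ)
  have hδ0 : δ ≠ 0 := wedge_ne_zero φ hE σ hf δ hδ
  have hrel := tmul_relation φ hE σ τ δ δ' hδ hδ'
  let ξ : (preT E L).obj (op ⊤) := ModStalk.secTmul (CohB1.toPMod E) (CohB1.toPMod L) τ δ -
    ∑ a, ModStalk.secTmul (CohB1.toPMod E) (CohB1.toPMod L) (σ a) (δ' a)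
  have hξ : (unitT E L).app (op ⊤) ξ = 0 := by
    refine (map_sub ((unitT E L).app (op ⊤)).hom _ _).trans (sub_eq_zero.2 ?_)
    exact hrel.trans (map_sum ((unitT E L).app (op ⊤)).hom _ _).symm
  have h0 : ξ = 0 := hinj (hξ.trans (map_zero _).symm)
  let _ : Field Γ(X, ⊤) := hF.toField
  obtain ⟨l, hlτ, hl⟩ := Submodule.exists_dual_map_eq_bot_of_notMem hτ inferInstance
  let Λ := ModuleCat.MonoidalCategory.tensorLift (M₁ := (CohB1.toPMod E).obj (op (⊤ : X.Opens)))
    (M₂ := (CohB1.toPMod L).obj (op (⊤ : X.Opens))) (M₃ := (CohB1.toPMod L).obj (op (⊤ : X.Opens)))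
    (fun (a : Γ(E, (⊤ : X.Opens))) (b : Γ(L, (⊤ : X.Opens))) => ((l a : Γ(X, ⊤)) • b : Γ(L, (⊤ : X.Opens))))
    (fun a a' b => (congrArg (· • b) (map_add l a a')).trans (add_smul _ _ _))
    (fun c a b => by exact (congrArg (· • b) (map_smul l (show Γ(X, ⊤) from c) a)).trans (mul_smul _ _ _))
    (fun a b b' => smul_add _ _ _)
    (fun c a b => by exact smul_comm (show Γ(X, ⊤) from l a) (show Γ(X, ⊤) from c) b)
  have hlσ : ∀ a, l (σ a) = 0 := fun a => by
    have : l (σ a) ∈ (Submodule.span Γ(X, ⊤) (Set.range σ)).map l :=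
      Submodule.mem_map_of_mem (Submodule.subset_span ⟨a, rfl⟩)
    rwa [hl, Submodule.mem_bot] at this
  have h1 : Λ.hom (ModStalk.secTmul (CohB1.toPMod E) (CohB1.toPMod L) τ δ) -
      ∑ a, Λ.hom (ModStalk.secTmul (CohB1.toPMod E) (CohB1.toPMod L) (σ a) (δ' a)) = 0 := by
    refine Eq.trans ?_ ((congrArg (fun z => Λ.hom z) h0).trans (map_zero _))
    exact (congrArg (_ - ·) (map_sum Λ.hom _ _).symm).trans (map_sub Λ.hom _ _).symm
  have h2 : (l τ : Γ(X, ⊤)) • δ - ∑ a, (l (σ a) : Γ(X, ⊤)) • δ' a = 0 := h1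
  simp only [hlσ, zero_smul, Finset.sum_const_zero, sub_zero] at h2
  have hu : IsUnit (l τ : Γ(X, ⊤)) := isUnit_iff_ne_zero.2 hlτ
  exact hδ0 (hu.smul_eq_zero.1 h2)

end Groth.Agent.MulDet27
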